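import Cfsg.Agent.H898.SD.Cls
import Cfsg.Agent.H704.S8.Defs
import Cfsg.Agent.H305.SepJ1
import Cfsg.Agent.H147.Gen.Eng

/-!
# S4908, FROB row of `J₁` (helper898): Frobenius group `11 : 5`
-/

set_option autoImplicit false
set_option linter.style.haveILetI false

namespace Cfsg.Agent.H898.SD

open Subgroup Cfsg Cfsg.Agent.H704.S8 Cfsg.Agent.H940.Eng Cfsg.Agent.H940.Eng.D

universe v w

/-- transport of `FrobRow` -/
theorem FrobRow.congr {c : ℕ} {D : Set ℕ} {X : Type v} [Group X] {Y : Type w} [Group Y] (e : X ≃* Y)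
    (h : FrobRow c D X) : FrobRow c D Y := by
  obtain ⟨P, Q, hP, hQ, hf, hQ1, hT⟩ := h
  have hcard : ∀ A : Subgroup X, Nat.card (A.map e.toMonoidHom) = Nat.card A := fun A =>
    card_map_of_injective e.injective
  refine ⟨P.map e.toMonoidHom, Q.map e.toMonoidHom, by rw [hcard]; exact hP, ?_, ?_, ?_, ?_⟩
  · rintro _ ⟨g, hg, rfl⟩
    rw [mem_normalizer_iff]
    intro z
    obtain ⟨x, rfl⟩ := e.surjective z
    have h1 := mem_normalizer_iff.1 (hQ hg) x
    have h2 : ∀ y : X, e y ∈ P.map e.toMonoidHom ↔ y ∈ P := fun y => by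
      constructor
      · rintro ⟨a, ha, hae⟩
        have : a = y := e.injective hae
        rwa [← this]
      · intro hy
        exact ⟨y, hy, rfl⟩
    have h3 : e.toMonoidHom g * e x * (e.toMonoidHom g)⁻¹ = e (g * x * g⁻¹) := by
      simp
    rw [h3, h2, h2]
    exact h1
  · rintro _ ⟨u, hu, rfl⟩ _ ⟨g, hg, rfl⟩ hc
    have h1 : g * u = u * g := e.injective (by
      rw [map_mul, map_mul]
      exact hc)
    rcases hf u hu g hg h1 with h | h
    · left; rw [h, map_one]
    · right; rw [h, map_one]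
  · intro h
    apply hQ1
    rw [← card_eq_one, ← hcard Q, h, card_bot]
  · intro T hT1 hPQ hd
    have hTe : (T.comap e.toMonoidHom).map e.toMonoidHom = T :=
      map_comap_eq_self_of_surjective e.surjective T
    have hne : T.comap e.toMonoidHom ≠ ⊤ := by
      intro h
      apply hT1
      rw [← hTe, h, ← MonoidHom.range_eq_map]
      exact MonoidHom.range_eq_top.2 e.surjective
    have hidx : (T.comap e.toMonoidHom).index = T.index := T.index_comap_of_surjective e.surjective
    have h1 := hT (T.comap e.toMonoidHom) hne (by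
      rcases hPQ with h | h
      · left; exact map_le_iff_le_comap.1 h
      · right; exact map_le_iff_le_comap.1 h) (by rw [hidx]; exact hd)
    have e' : (T.comap e.toMonoidHom) ≃* T :=
      ((T.comap e.toMonoidHom).equivMapOfInjective e.toMonoidHom e.injective).trans (MulEquiv.subgroupCongr hTe)
    have h2 : Nat.card (ConjClasses (T.comap e.toMonoidHom)) = Nat.card (ConjClasses T) := by
      refine Nat.card_congr ⟨ConjClasses.map e'.toMonoidHom, ConjClasses.map e'.symm.toMonoidHom, ?_, ?_⟩
      · intro c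
        obtain ⟨g, rfl⟩ := ConjClasses.exists_rep c
        exact congrArg ConjClasses.mk (e'.symm_apply_apply g)
      · intro c
        obtain ⟨g, rfl⟩ := ConjClasses.exists_rep c
        exact congrArg ConjClasses.mk (e'.apply_symm_apply g)
    rw [h2, Nat.card_congr e'.toEquiv, Nat.card_congr e.toEquiv] at h1
    exact h1

/-- a Frobenius group `⟨x⟩ : ⟨y⟩` from `|C(P)| = p`, `|N(P)| = p m`, `q ∣ m` -/
theorem exists_frob {X : Type v} [Group X] [Finite X] {p q : ℕ} (hp : p.Prime) (hq : q.Prime) (hpq : p ≠ q)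
    {P : Subgroup X} (hP : Nat.card P = p) (hC : Nat.card (centralizer (P : Set X)) = p)
    (hN : q ∣ Nat.card (normalizer (P : Set X))) :
    ∃ Q : Subgroup X, Nat.card Q = q ∧ Q ≤ normalizer (P : Set X) ∧
      (∀ u ∈ P, ∀ g ∈ Q, g * u = u * g → u = 1 ∨ g = 1) ∧ Q ≠ ⊥ := by
  haveI := Fact.mk hp
  haveI := Fact.mk hq
  obtain ⟨y, hy⟩ := exists_prime_orderOf_dvd_card' q hN
  have hy' : orderOf (y : X) = q := by rw [Subgroup.orderOf_coe, hy]
  have hQc : Nat.card (zpowers (y : X)) = q := by rw [Nat.card_zpowers, hy']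
  have hPC : centralizer (P : Set X) = P := by
    symm
    refine eq_of_le_of_card_ge ?_ (by rw [hC, hP])
    intro x hx
    rw [mem_centralizer_iff]
    intro z hz
    have hcyc : IsCyclic P := isCyclic_of_prime_card hP
    exact congrArg Subtype.val ((IsCyclic.isMulCommutative (α := P)).is_comm.comm (⟨z, hz⟩ : P) ⟨x, hx⟩)
  refine ⟨zpowers (y : X), hQc, ?_, ?_, ?_⟩
  · rw [zpowers_le]
    exact y.2
  · intro u hu g hg hgu
    by_cases hu1 : u = 1
    · exact Or.inl hu1
    · right
      -- `u` generates `P`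
      have hou : orderOf u = p := by
        have h1 : orderOf (⟨u, hu⟩ : P) ∣ p := hP ▸ orderOf_dvd_natCard _
        rcases (Nat.dvd_prime hp).1 h1 with h2 | h2
        · exfalso
          apply hu1
          rw [orderOf_eq_one_iff] at h2
          exact congrArg Subtype.val h2
        · rw [← h2, ← Subgroup.orderOf_coe]
      have hPu : zpowers u = P := by
        refine eq_of_le_of_card_ge ?_ (by rw [Nat.card_zpowers, hou, hP])
        rw [zpowers_le]
        exact hu
      have hgC : g ∈ centralizer (P : Set X) := by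
        rw [mem_centralizer_iff]
        intro z hz
        rw [← hPu] at hz
        obtain ⟨i, rfl⟩ := mem_zpowers_iff.1 (show z ∈ zpowers u from hz)
        exact ((show Commute g u from hgu).zpow_right i).eq.symm
      rw [hPC] at hgC
      have h1 : orderOf g ∣ p := by
        have := orderOf_dvd_natCard (⟨g, hgC⟩ : P)
        rwa [hP, ← Subgroup.orderOf_coe] at this
      have h2 : orderOf g ∣ q := by
        have := orderOf_dvd_natCard (⟨g, hg⟩ : zpowers (y : X))
        rwa [hQc, ← Subgroup.orderOf_coe] at this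
      have h3 : orderOf g ∣ 1 := by
        rw [← (Nat.coprime_primes hp hq).2 hpq]
        exact Nat.dvd_gcd h1 h2
      exact orderOf_eq_one_iff.1 (Nat.dvd_one.1 h3)
  · intro h
    rw [← card_eq_one, hQc] at h
    exact hq.one_lt.ne' h

namespace JOne

open Cfsg.Agent.H305.SepJ1 Cfsg.Agent.H147.Gen

theorem chk11 : chkO l_j1 n_j1 11 [(2, 3), (3, 1), (5, 1), (7, 1), (19, 1)]
    [11, 22, 55, 110, 660, 1320] [] 0 loc o_j1 = true := by decide +kernel

theorem chk5 : chkO l_j1 n_j1 5 [(2, 3), (3, 1), (7, 1), (11, 1), (19, 1)]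
    [5, 10, 15, 20, 30, 40, 55, 60, 110, 120, 660, 1320] [] 0 loc o_j1 = true := by decide +kernel

theorem row (B : Base) (D : Set ℕ) : FrobRow 1 D G := by
  haveI := fin
  haveI : Fact (Nat.Prime 11) := ⟨by norm_num⟩
  obtain ⟨x, hx⟩ := exists_prime_orderOf_dvd_card' (G := G) 11 (by rw [card]; decide)
  have hP : Nat.card (zpowers x) = 11 := by rw [Nat.card_zpowers, hx]
  obtain ⟨c1, c2⟩ := cn11 hP
  obtain ⟨Q, hQ, hQN, hQf, hQ1⟩ := exists_frob (p := 11) (q := 5) (by norm_num) (by norm_num) (by norm_num) hP c1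
    (by rw [c2]; norm_num)
  refine ⟨zpowers x, Q, by rw [hP]; norm_num, hQN, hQf, hQ1, ?_⟩
  intro T hT hPQ _
  rw [one_mul]
  have h11 : 11 ∣ Nat.card T → Nat.card (ConjClasses T) ≤ 11 + Nat.card T / 11 := by
    intro h
    refine card_classes_le_one (by norm_num) (by rw [card]; decide) ?_ h
    intro y hy
    have h1 := (cn11 (R := zpowers y) (by rw [Nat.card_zpowers, hy])).1
    rw [cent_zpowers] at h1
    exact h1.le
  have htr := card_classes_le_card T
  have hm : Nat.card T ∈ [11, 22, 55, 110, 660, 1320] ∨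
      Nat.card T ∈ [5, 10, 15, 20, 30, 40, 55, 60, 110, 120, 660, 1320] := by
    rcases hPQ with h | h
    · left
      have h1 := card_dvd_of_le h
      rw [hP] at h1
      exact ordersD (ctx B) _ _ 0 chk11 T h1 hT
    · right
      have h1 := card_dvd_of_le h
      rw [hQ] at h1
      exact ordersD (ctx B) _ _ 0 chk5 T h1 hT
  have hcard : Nat.card G = 175560 := card
  rw [hcard]
  generalize Nat.card T = m at *
  generalize Nat.card (ConjClasses T) = k at *
  simp only [List.mem_cons, List.not_mem_nil, or_false] at hm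
  rcases hm with hm | hm
  · rcases hm with rfl | rfl | rfl | rfl | rfl | rfl <;> omega
  · rcases hm with rfl | rfl | rfl | rfl | rfl | rfl | rfl | rfl | rfl | rfl | rfl | rfl <;> omega

end JOne

/-- **FROB row of `J₁`** -/
theorem frob_J1 (B : Base) {X : Type v} [Group X] (h : Spor.IsoJ1 X) (D : Set ℕ) : FrobRow 1 D X := by
  obtain ⟨e⟩ := h
  exact FrobRow.congr e.symm (JOne.row B D)

end Cfsg.Agent.H898.SD
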