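import Mathlib

/-!
# Upper bounds for the number of conjugacy classes (helper898; S4908, CHIEF rows)

`CovP T p c`: the elements `g` with `p ∣ |C(g)|` are conjugate into a set of `c` elements.
`card_classes_le`: `k(T) ≤ ∑ c_p + |T| / ∏ |T|_p`.
`covP_of_prime`: `p ∥ |T|`: `c_p = |C(x)|`, `x` of order `p`.
`card_mul_lt`: the form for subgroups of a group with known centralizer orders.
-/

set_option autoImplicit false

namespace Cfsg.Agent.H898.SD

open Subgroup

universe u

/-- The elements with `p ∣ |C(g)|` are conjugate into a set of at most `c` elements. -/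
def CovP (T : Type u) [Group T] (p c : ℕ) : Prop :=
  ∃ D : Finset T, D.card ≤ c ∧ ∀ g : T, p ∣ Nat.card (centralizer ({g} : Set T)) → ∃ d ∈ D, IsConj g d

theorem CovP.mono {T : Type u} [Group T] {p c c' : ℕ} (h : CovP T p c) (hc : c ≤ c') : CovP T p c' := by
  obtain ⟨D, h1, h2⟩ := h
  exact ⟨D, h1.trans hc, h2⟩

theorem card_carrier_mul {T : Type u} [Group T] [Finite T] (g : T) :
    Nat.card (ConjClasses.mk g).carrier * Nat.card (centralizer ({g} : Set T)) = Nat.card T := by
  have h1 : (ConjClasses.mk g).carrier = MulAction.orbit (ConjAct T) g := by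
    rw [ConjAct.orbit_eq_carrier_conjClasses]
  have h2 : Nat.card (MulAction.orbit (ConjAct T) g) * Nat.card (MulAction.stabilizer (ConjAct T) g) =
      Nat.card (ConjAct T) := by
    rw [← Nat.card_prod]
    exact Nat.card_congr (MulAction.orbitProdStabilizerEquivGroup (ConjAct T) g)
  have h3 : Nat.card (MulAction.stabilizer (ConjAct T) g) = Nat.card (centralizer ({g} : Set T)) := by
    have := ConjAct.stabilizer_eq_centralizer g
    refine Nat.card_congr (Equiv.subtypeEquiv ConjAct.ofConjAct.toEquiv ?_)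
    intro x
    rw [MulAction.mem_stabilizer_iff, mem_centralizer_singleton_iff, ConjAct.smul_def]
    show _ ↔ ConjAct.ofConjAct x * g = g * ConjAct.ofConjAct x
    constructor
    · intro h
      calc ConjAct.ofConjAct x * g = ConjAct.ofConjAct x * g * (ConjAct.ofConjAct x)⁻¹ * ConjAct.ofConjAct x := by group
        _ = g * ConjAct.ofConjAct x := by rw [h]
    · intro h
      rw [h]
      group
  rw [h1, ← h3, h2]
  rfl

/-- the classes of size divisible by `m` are few -/
theorem card_big_le {T : Type u} [Group T] [Finite T] (m : ℕ) :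
    Nat.card {C : ConjClasses T // m ∣ Nat.card C.carrier} * m ≤ Nat.card T := by
  classical
  have := Fintype.ofFinite T
  have := Fintype.ofFinite (ConjClasses T)
  have h0 : ∀ C : ConjClasses T, 0 < Nat.card C.carrier := by
    intro C
    obtain ⟨g, rfl⟩ := ConjClasses.exists_rep C
    have : Nonempty (ConjClasses.mk g).carrier := ⟨⟨g, ConjClasses.mem_carrier_mk⟩⟩
    have : Finite (ConjClasses.mk g).carrier := Set.toFinite _
    exact Nat.card_pos
  let f : (Σ C : {C : ConjClasses T // m ∣ Nat.card C.carrier}, C.1.carrier) → T := fun x => x.2.1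
  have hf : Function.Injective f := by
    rintro ⟨⟨C, hC⟩, ⟨x, hx⟩⟩ ⟨⟨D, hD⟩, ⟨y, hy⟩⟩ h
    have hxy : x = y := h
    subst hxy
    have h1 : C = D := by
      rw [ConjClasses.mem_carrier_iff_mk_eq] at hx hy
      exact hx.symm.trans hy
    subst h1
    rfl
  have h1 := Nat.card_le_card_of_injective f hf
  have : ∀ C : {C : ConjClasses T // m ∣ Nat.card C.carrier}, Finite C.1.carrier := fun _ => Set.toFinite _
  rw [Nat.card_sigma] at h1
  have h2 : ∑ C : {C : ConjClasses T // m ∣ Nat.card C.carrier}, m ≤
      ∑ C : {C : ConjClasses T // m ∣ Nat.card C.carrier}, Nat.card C.1.carrier :=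
    Finset.sum_le_sum fun C _ => Nat.le_of_dvd (h0 C.1) C.2
  rw [Finset.sum_const, Finset.card_univ, smul_eq_mul, ← Nat.card_eq_fintype_card] at h2
  exact h2.trans h1

theorem prod_dvd (ps : Finset ℕ) (hp : ∀ p ∈ ps, p.Prime) (f : ℕ → ℕ) (z : ℕ) (h : ∀ p ∈ ps, p ^ f p ∣ z) :
    ∏ p ∈ ps, p ^ f p ∣ z := by
  classical
  induction ps using Finset.induction_on with
  | empty => simp
  | insert a s ha ih =>
    rw [Finset.prod_insert ha]
    refine Nat.Coprime.mul_dvd_of_dvd_of_dvd ?_ (h a (Finset.mem_insert_self _ _))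
      (ih (fun p hps => hp p (Finset.mem_insert_of_mem hps)) (fun p hps => h p (Finset.mem_insert_of_mem hps)))
    refine Nat.Coprime.prod_right fun p hps => Nat.Coprime.pow _ _ ?_
    refine (Nat.coprime_primes (hp a (Finset.mem_insert_self _ _)) (hp p (Finset.mem_insert_of_mem hps))).2 ?_
    rintro rfl
    exact ha hps

/-- **the bound** -/
theorem card_classes_le {T : Type u} [Group T] [Finite T] (ps : Finset ℕ) (hp : ∀ p ∈ ps, p.Prime) (c : ℕ → ℕ)
    (hc : ∀ p ∈ ps, CovP T p (c p)) (m : ℕ) (hm : ∏ p ∈ ps, p ^ (Nat.card T).factorization p = m) :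
    Nat.card (ConjClasses T) ≤ ∑ p ∈ ps, c p + Nat.card T / m := by
  classical
  have hfT : Fintype T := Fintype.ofFinite T
  have hfc : Fintype (ConjClasses T) := Fintype.ofFinite _
  have hTpos : 0 < Nat.card T := Nat.card_pos
  choose! D hD1 hD2 using hc
  have hmpos : 0 < m := by
    rw [← hm]
    exact Finset.prod_pos fun p hpp => pow_pos (hp p hpp).pos _
  let A : Finset (ConjClasses T) := Finset.univ.filter fun C => m ∣ Nat.card C.carrier
  let B : Finset (ConjClasses T) := ps.biUnion fun p => (D p).image ConjClasses.mk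
  have hcov : (Finset.univ : Finset (ConjClasses T)) ⊆ A ∪ B := by
    intro C _
    obtain ⟨g, rfl⟩ := ConjClasses.exists_rep C
    rw [Finset.mem_union]
    by_cases h : ∃ p ∈ ps, p ∣ Nat.card (centralizer ({g} : Set T))
    · right
      obtain ⟨p, hpp, hdv⟩ := h
      obtain ⟨d, hd, hgd⟩ := hD2 p hpp g hdv
      refine Finset.mem_biUnion.2 ⟨p, hpp, Finset.mem_image.2 ⟨d, hd, ?_⟩⟩
      exact (ConjClasses.mk_eq_mk_iff_isConj.2 hgd).symm
    · left
      push Not at h
      refine Finset.mem_filter.2 ⟨Finset.mem_univ _, ?_⟩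
      rw [← hm]
      refine prod_dvd ps hp _ _ ?_
      intro p hpp
      have h1 := card_carrier_mul g
      have h2 : p ^ (Nat.card T).factorization p ∣ Nat.card (ConjClasses.mk g).carrier * Nat.card (centralizer ({g} : Set T)) := by
        rw [h1]
        exact Nat.ordProj_dvd _ _
      exact (Nat.Coprime.dvd_of_dvd_mul_right (Nat.Coprime.pow_left _
        ((Nat.Prime.coprime_iff_not_dvd (hp p hpp)).2 (h p hpp))) h2)
  have h1 : Nat.card (ConjClasses T) ≤ A.card + B.card := by
    rw [Nat.card_eq_fintype_card, ← Finset.card_univ]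
    exact (Finset.card_le_card hcov).trans (Finset.card_union_le _ _)
  have h2 : A.card * m ≤ Nat.card T := by
    have h3 : A.card = Nat.card {C : ConjClasses T // m ∣ Nat.card C.carrier} := by
      rw [Nat.card_eq_fintype_card, Fintype.card_subtype]
    rw [h3]
    exact card_big_le m
  have h3 : A.card ≤ Nat.card T / m := (Nat.le_div_iff_mul_le hmpos).2 h2
  have h4 : B.card ≤ ∑ p ∈ ps, c p := by
    refine Finset.card_biUnion_le.trans (Finset.sum_le_sum fun p hpp => ?_)
    exact Finset.card_image_le.trans (hD1 p hpp)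
  omega

/-- a prime dividing the order once: `c_p = |C(x)|` -/
theorem covP_of_prime {T : Type u} [Group T] [Finite T] {p c : ℕ} (hp : p.Prime) (h2 : ¬ p ^ 2 ∣ Nat.card T)
    (hc : ∀ x : T, orderOf x = p → Nat.card (centralizer ({x} : Set T)) ≤ c) : CovP T p c := by
  classical
  have := Fact.mk hp
  have := Fintype.ofFinite T
  by_cases hd : p ∣ Nat.card T
  · obtain ⟨x, hx⟩ := exists_prime_orderOf_dvd_card' p hd
    have hfin : ((centralizer ({x} : Set T) : Subgroup T) : Set T).Finite := Set.toFinite _
    refine ⟨hfin.toFinset, ?_, ?_⟩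
    · rw [← Set.ncard_eq_toFinset_card]
      exact (hc x hx)
    · intro g hg
      obtain ⟨y, hy⟩ := exists_prime_orderOf_dvd_card' p hg
      have hy' : orderOf (y : T) = p := by rw [Subgroup.orderOf_coe, hy]
      -- the Sylow subgroups generated by `x` and `y`
      have key : ∀ z : T, orderOf z = p → ∃ P : Sylow p T, (P : Subgroup T) = zpowers z := by
        intro z hz
        have hP : IsPGroup p (zpowers z) := IsPGroup.of_card (n := 1) (by rw [Nat.card_zpowers, hz, pow_one])
        refine ⟨hP.toSylow ?_, rfl⟩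
        intro h
        apply h2
        rw [← card_mul_index (zpowers z), Nat.card_zpowers, hz, pow_two]
        exact Nat.mul_dvd_mul_left p h
      obtain ⟨P, hP⟩ := key x hx
      obtain ⟨Q, hQ⟩ := key y hy'
      obtain ⟨t, ht⟩ := MulAction.exists_smul_eq T Q P
      have h3 : ((t • Q : Sylow p T) : Subgroup T) = zpowers x := by rw [ht, hP]
      rw [Sylow.coe_subgroup_smul, hQ] at h3
      have h4 : x ∈ zpowers x := mem_zpowers x
      rw [← h3] at h4
      obtain ⟨w, hw, hwx⟩ := h4
      refine ⟨t * g * t⁻¹, ?_, isConj_iff.2 ⟨t, rfl⟩⟩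
      rw [Set.Finite.mem_toFinset]
      show t * g * t⁻¹ ∈ centralizer ({x} : Set T)
      rw [mem_centralizer_singleton_iff]
      have h5 : x = t * w * t⁻¹ := hwx.symm
      obtain ⟨i, rfl⟩ := mem_zpowers_iff.1 (show w ∈ zpowers (y : T) from hw)
      have h6 : Commute g ((y : T) ^ i) := by
        have h7 : (y : T) * g = g * (y : T) := mem_centralizer_singleton_iff.1 y.2
        exact (show Commute g (y : T) from h7.symm).zpow_right i
      rw [h5]
      calc t * g * t⁻¹ * (t * (y : T) ^ i * t⁻¹) = t * (g * (y : T) ^ i) * t⁻¹ := by group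
        _ = t * ((y : T) ^ i * g) * t⁻¹ := by rw [h6.eq]
        _ = t * (y : T) ^ i * t⁻¹ * (t * g * t⁻¹) := by group
  · refine ⟨∅, by simp, ?_⟩
    intro g hg
    exact absurd (hg.trans (card_subgroup_dvd_card _)) hd

/-- subgroups: centralizers in a subgroup are smaller -/
theorem card_cent_le {G : Type u} [Group G] [Finite G] (T : Subgroup G) (x : T) :
    Nat.card (centralizer ({x} : Set T)) ≤ Nat.card (centralizer ({(x : G)} : Set G)) := by
  refine Nat.card_le_card_of_injective (fun y : centralizer ({x} : Set T) =>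
    (⟨((y : T) : G), by
      rw [mem_centralizer_singleton_iff]
      exact congrArg Subtype.val (mem_centralizer_singleton_iff.1 y.2)⟩ : centralizer ({(x : G)} : Set G))) ?_
  intro y z h
  exact Subtype.ext (Subtype.ext (congrArg (fun u : centralizer ({(x : G)} : Set G) => (u : G)) h))

/-- a subgroup `T`, one prime `p ∥ |G|` with `|C(x)| ≤ c`: `k(T) ≤ c + |T| / p` -/
theorem card_classes_le_one {G : Type u} [Group G] [Finite G] {p c : ℕ} (hp : p.Prime) (h2 : ¬ p ^ 2 ∣ Nat.card G)
    (hc : ∀ x : G, orderOf x = p → Nat.card (centralizer ({x} : Set G)) ≤ c) {T : Subgroup G} (hT : p ∣ Nat.card T) :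
    Nat.card (ConjClasses T) ≤ c + Nat.card T / p := by
  have h2' : ¬ p ^ 2 ∣ Nat.card T := fun h => h2 (h.trans (card_subgroup_dvd_card T))
  have h1 := card_classes_le (T := T) {p} (by intro q hq; rw [Finset.mem_singleton.1 hq]; exact hp) (fun _ => c) (by
    intro q hq
    rw [Finset.mem_singleton.1 hq]
    refine covP_of_prime hp h2' fun x hx => (card_cent_le T x).trans (hc x ?_)
    rw [Subgroup.orderOf_coe, hx]) p (by
    rw [Finset.prod_singleton]
    have h3 : (Nat.card T).factorization p = 1 := by
      refine le_antisymm ?_ ((hp.dvd_iff_one_le_factorization Nat.card_pos.ne').1 hT)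
      by_contra hlt
      push Not at hlt
      exact h2' ((pow_dvd_pow p hlt).trans (Nat.ordProj_dvd _ _))
    rw [h3, pow_one])
  simpa using h1

theorem card_classes_le_card (T : Type u) [Group T] [Finite T] : Nat.card (ConjClasses T) ≤ Nat.card T :=
  Nat.card_le_card_of_surjective ConjClasses.mk ConjClasses.mk_surjective

end Cfsg.Agent.H898.SD
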